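import Mathlib
import Cfsg.Agent.Lib.SpFourEven.Defs
import Cfsg.Agent.Lib.Forms.Max.TwoRoot.Basic
import Cfsg.Agent.Recognition.SuzukiModule

/-!
# The exceptional endomorphism of `Sp₄` in characteristic two

`phi` is `star4` read in the coordinates `inl 0, inl 1, inr 1, inr 0`.  It is checked on transvections, which
generate, that it stays in the symplectic group and that its square is the Frobenius map.
-/

set_option autoImplicit false
set_option linter.unusedSectionVars false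
set_option linter.unusedSimpArgs false

namespace Cfsg.Agent.SpFourEven.Short

open Matrix Cfsg.Agent.Aschbacher Cfsg.Agent.Forms.SympStd Cfsg.Agent.Forms.Max
open Cfsg.Agent.Forms.Max.Symp (spTrv_apply B_self mem_spGL_iff centres spGL_le_of_centres)
open Cfsg.Lie (star4 pairOf altForm4)
open Cfsg.Agent.Recognition.SuzukiModule (minorsTwo star4_mul star4_one det_smul_one_sub row_rel col_rel formMat)

variable {F : Type*} [Field F]

local notation "GL4" => GL (Fin 2 ⊕ Fin 2) F
local notation "Vec" => (Fin 2 ⊕ Fin 2 → F)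
local notation "B" => sympB 2 F
local notation "Mat" => Matrix (Fin 2 ⊕ Fin 2) (Fin 2 ⊕ Fin 2) F
local notation "M4" => Matrix (Fin 4) (Fin 4) F

/-- the coordinates of the antidiagonal form -/
def idx : Fin 2 ⊕ Fin 2 ≃ Fin 4 where
  toFun := Sum.elim ![0, 1] ![3, 2]
  invFun := ![.inl 0, .inl 1, .inr 1, .inr 0]
  left_inv := by decide
  right_inv := by decide

/-- a vector in the four coordinates -/
def vec4 (x : Fin 2 ⊕ Fin 2 → F) : Fin 4 → F := x ∘ idx.symm

/-- a matrix in the four coordinates -/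
def mat4 (A : Matrix (Fin 2 ⊕ Fin 2) (Fin 2 ⊕ Fin 2) F) : Matrix (Fin 4) (Fin 4) F :=
  A.submatrix idx.symm idx.symm

/-- and back -/
def mat22 (A : Matrix (Fin 4) (Fin 4) F) : Matrix (Fin 2 ⊕ Fin 2) (Fin 2 ⊕ Fin 2) F :=
  A.submatrix idx idx

theorem mat4_mat22 (A : M4) : mat4 (mat22 A) = A := by
  simp [mat4, mat22, Matrix.submatrix_submatrix]

theorem mat22_mat4 (A : Mat) : mat22 (mat4 A) = A := by
  simp [mat4, mat22, Matrix.submatrix_submatrix]

theorem mat4_mul (A C : Mat) : mat4 (A * C) = mat4 A * mat4 C := by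
  simp [mat4, Matrix.submatrix_mul_equiv]

theorem mat22_mul (A C : M4) : mat22 (A * C) = mat22 A * mat22 C := by
  simp [mat22, Matrix.submatrix_mul_equiv]

theorem mat4_one : mat4 (1 : Mat) = 1 := by simp [mat4]

theorem mat22_one : mat22 (1 : M4) = 1 := by simp [mat22]

theorem mat4_mulVec (A : Mat) (x : Vec) : mat4 A *ᵥ vec4 x = vec4 (A *ᵥ x) := by
  funext i
  simp [mat4, vec4, Matrix.mulVec, dotProduct, Fin.sum_univ_four, Fintype.sum_sum_type, Fin.sum_univ_two, idx]
  ring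

theorem vec4_back (a : Fin 4 → F) : vec4 (a ∘ idx) = a := by funext i; simp [vec4]

variable [CharP F 2]

theorem altForm4_vec4 (x y : Vec) : altForm4 (vec4 x) (vec4 y) = B x y := by
  rw [sympB_apply, sympForm_eq]
  simp [altForm4, vec4, idx, Fin.sum_univ_two, CharTwo.sub_eq_add]
  ring

/-- an element in the four coordinates -/
def toFour (g : GL (Fin 2 ⊕ Fin 2) F) : GL (Fin 4) F :=
  ⟨mat4 (g : Matrix (Fin 2 ⊕ Fin 2) (Fin 2 ⊕ Fin 2) F), mat4 (g⁻¹ : GL (Fin 2 ⊕ Fin 2) F).val,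
    by rw [← mat4_mul, Units.mul_inv, mat4_one], by rw [← mat4_mul, Units.inv_mul, mat4_one]⟩

theorem toFour_mem {g : GL4} (hg : g ∈ Cfsg.spGL 2 F) : toFour g ∈ Cfsg.Lie.Sp4 F := fun u v => by
  rw [← vec4_back u, ← vec4_back v]
  show altForm4 (mat4 (g : Mat) *ᵥ _) (mat4 (g : Mat) *ᵥ _) = _
  rw [mat4_mulVec, mat4_mulVec, altForm4_vec4, altForm4_vec4, mem_spGL_iff.1 hg]

/-- `star4` in the coordinates of `spGL` -/
def phiMat (A : Matrix (Fin 2 ⊕ Fin 2) (Fin 2 ⊕ Fin 2) F) : Matrix (Fin 2 ⊕ Fin 2) (Fin 2 ⊕ Fin 2) F :=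
  mat22 (star4 (mat4 A))

theorem phiMat_mul {g h : GL4} (hg : g ∈ Cfsg.spGL 2 F) (hh : h ∈ Cfsg.spGL 2 F) :
    phiMat ((g : Mat) * (h : Mat)) = phiMat (g : Mat) * phiMat (h : Mat) := by
  rw [phiMat, phiMat, phiMat, ← mat22_mul, mat4_mul]
  congr 1
  exact star4_mul (toFour_mem hg) (toFour_mem hh)

/-- the endomorphism as a homomorphism -/
noncomputable def phi : ↥(Cfsg.spGL 2 F) →* GL (Fin 2 ⊕ Fin 2) F :=
  MonoidHom.toHomUnits
    { toFun := fun g => phiMat ((g : GL4) : Mat)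
      map_one' := by
        rw [OneMemClass.coe_one, Units.val_one, phiMat, mat4_one, star4_one, mat22_one]
      map_mul' := fun g h => by
        rw [Subgroup.coe_mul, Units.val_mul, phiMat_mul g.2 h.2] }

theorem coe_phi (g : ↥(Cfsg.spGL 2 F)) : ((phi g : GL4) : Mat) = phiMat ((g : GL4) : Mat) := rfl

/-- a transvection of the antidiagonal form -/
def tm (c : F) (a : Fin 4 → F) : Matrix (Fin 4) (Fin 4) F := 1 + c • vecMulVec a ![a 3, a 2, a 1, a 0]

/-- the image of a transvection -/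
def sm (c : F) (a : Fin 4 → F) : Matrix (Fin 4) (Fin 4) F :=
  1 + c • !![a 0 * a 3 + a 1 * a 2, a 1 * a 1, a 0 * a 0, 0;
    a 2 * a 2, a 0 * a 3 + a 1 * a 2, 0, a 0 * a 0;
    a 3 * a 3, 0, a 0 * a 3 + a 1 * a 2, a 1 * a 1;
    0, a 3 * a 3, a 2 * a 2, a 0 * a 3 + a 1 * a 2]

theorem mat4_spTrv (v : Vec) (c : F) : mat4 ((spTrv v c : GL4) : Mat) = tm c (vec4 v) := by
  refine Matrix.ext_iff_mulVec.2 fun w => ?_
  rw [← vec4_back w, mat4_mulVec, spTrv_apply, ← altForm4_vec4, tm, add_mulVec, one_mulVec, smul_mulVec,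
    vecMulVec_mulVec, op_smul_eq_smul]
  funext i
  simp [vec4, altForm4, dotProduct, Fin.sum_univ_four]
  ring

theorem star4_tm (c : F) (a : Fin 4 → F) : star4 (tm c a) = sm c a := by
  ext p r
  fin_cases p <;> fin_cases r <;>
    simp [star4, pairOf, tm, sm, vecMulVec_apply, Matrix.one_apply] <;>
    ring_nf <;> simp [CharTwo.two_eq_zero, CharTwo.sub_eq_add, CharTwo.neg_eq]

theorem sm_preserves (c : F) (a : Fin 4 → F) (u v : Fin 4 → F) :
    altForm4 (sm c a *ᵥ u) (sm c a *ᵥ v) = altForm4 u v := by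
  simp [sm, altForm4, Matrix.mulVec, dotProduct, Fin.sum_univ_four, Matrix.one_apply]
  ring_nf
  simp [CharTwo.two_eq_zero, show (4 : F) = 2 * 2 by norm_num]

theorem star4_sm (c : F) (a : Fin 4 → F) : star4 (sm c a) = (tm c a).map (fun x => x * x) := by
  ext p r
  fin_cases p <;> fin_cases r <;>
    simp [star4, pairOf, tm, sm, vecMulVec_apply, Matrix.one_apply] <;>
    ring_nf <;> simp [CharTwo.two_eq_zero, CharTwo.sub_eq_add, CharTwo.neg_eq]

theorem phiMat_spTrv (v : Vec) (c : F) : phiMat ((spTrv v c : GL4) : Mat) = mat22 (sm c (vec4 v)) := by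
  rw [phiMat, mat4_spTrv, star4_tm]

theorem phi_mem [Fintype F] (g : ↥(Cfsg.spGL 2 F)) : phi g ∈ Cfsg.spGL 2 F := by
  have h : Cfsg.spGL 2 F ≤ ((Cfsg.spGL 2 F).comap phi).map (Cfsg.spGL 2 F).subtype := by
    refine spGL_le_of_centres fun v c => ⟨⟨spTrv v c, spTrv_mem v c⟩, ?_, rfl⟩
    refine mem_spGL_iff.2 fun x y => ?_
    rw [coe_phi, phiMat_spTrv, ← altForm4_vec4, ← altForm4_vec4, ← mat4_mulVec, ← mat4_mulVec, mat4_mat22,
      sm_preserves]
  obtain ⟨x, hx, hxg⟩ := h g.2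
  rwa [show x = g from Subtype.ext hxg] at hx

/-- the endomorphism of the symplectic group -/
noncomputable def phiEnd [Fintype F] : ↥(Cfsg.spGL 2 F) →* ↥(Cfsg.spGL 2 F) :=
  phi.codRestrict _ phi_mem

theorem phiEnd_sq [Fintype F] (g : ↥(Cfsg.spGL 2 F)) :
    ((phiEnd (phiEnd g) : GL4) : Mat) = ((g : GL4) : Mat).map (fun x => x * x) := by
  let M : Subgroup ↥(Cfsg.spGL 2 F) :=
    MonoidHom.eqLocus ((Units.coeHom _).comp ((phi.comp phiEnd)))
      (((frobenius F 2).mapMatrix.toMonoidHom).comp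
        ((Units.coeHom _).comp (Cfsg.spGL 2 F).subtype))
  have h : Cfsg.spGL 2 F ≤ M.map (Cfsg.spGL 2 F).subtype := by
    refine spGL_le_of_centres fun v c => ⟨⟨spTrv v c, spTrv_mem v c⟩, ?_, rfl⟩
    show phiMat (phiMat ((spTrv v c : GL4) : Mat)) = ((spTrv v c : GL4) : Mat).map (frobenius F 2)
    rw [phiMat_spTrv, phiMat, mat4_mat22, star4_sm, ← mat4_spTrv]
    ext i j
    simp [mat22, mat4, frobenius_def, pow_two]
  obtain ⟨x, hx, hxg⟩ := h g.2
  rw [show x = g from Subtype.ext hxg] at hx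
  refine hx.trans ?_
  ext i j
  simp [frobenius_def, pow_two]

theorem phiEnd_injective [Fintype F] : Function.Injective (phiEnd (F := F)) := fun g h e => by
  have e' := congrArg (fun z => ((phiEnd z : ↥(Cfsg.spGL 2 F)) : GL4).1) e
  rw [phiEnd_sq, phiEnd_sq] at e'
  refine Subtype.ext (Units.ext (Matrix.ext fun i j => ?_))
  have h2 := congrFun (congrFun e' i) j
  simp only [Matrix.map_apply] at h2
  exact CharTwo.sq_injective (by simpa [pow_two] using h2)

theorem phiEnd_bijective [Fintype F] : Function.Bijective (phiEnd (F := F)) :=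
  ⟨phiEnd_injective, Finite.surjective_of_injective phiEnd_injective⟩

/-- the second coefficient of the characteristic polynomial -/
theorem charpoly_coeff_two (M : M4) : M.charpoly.coeff 2 = minorsTwo M := by
  have h : M.charpoly = Polynomial.X ^ 4 - Polynomial.C M.trace * Polynomial.X ^ 3 +
      Polynomial.C (minorsTwo M) * Polynomial.X ^ 2 - Polynomial.C M.adjugate.trace * Polynomial.X +
      Polynomial.C M.det := by
    have e : Matrix.scalar (Fin 4) (Polynomial.X : Polynomial F) =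
        (Polynomial.X : Polynomial F) • (1 : Matrix (Fin 4) (Fin 4) (Polynomial F)) := by
      rw [Matrix.smul_one_eq_diagonal]; rfl
    have hadj : (M.map Polynomial.C).adjugate.trace = Polynomial.C M.adjugate.trace := by
      rw [← RingHom.mapMatrix_apply, ← RingHom.map_adjugate, RingHom.mapMatrix_apply]
      simp [Matrix.trace, map_sum]
    rw [Matrix.charpoly, Matrix.charmatrix, e, RingHom.mapMatrix_apply, det_smul_one_sub, hadj,
      ← RingHom.mapMatrix_apply, ← RingHom.map_det, RingHom.mapMatrix_apply]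
    simp [Matrix.trace, minorsTwo, map_sum]
  rw [h]
  simp [Polynomial.coeff_X_pow, Polynomial.coeff_C]

/-- the trace of the image -/
theorem trace_phi [Fintype F] (g : ↥(Cfsg.spGL 2 F)) :
    ((phiEnd g : GL4) : Mat).trace = ((g : GL4) : Mat).charpoly.coeff 2 := by
  have hg := toFour_mem g.2
  have h2 : (2 : F) = 0 := CharTwo.two_eq_zero
  have hm2 : minorsTwo (mat4 ((g : GL4) : Mat)) = (star4 (mat4 ((g : GL4) : Mat))).trace := by
    have r03 := row_rel hg 0 3
    have c12 := col_rel hg 1 2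
    simp [formMat, toFour] at r03 c12
    generalize mat4 ((g : GL4) : Mat) = A at r03 c12 ⊢
    simp only [Matrix.trace, Matrix.diag, Fin.sum_univ_four, star4, Matrix.of_apply, minorsTwo]
    simp [pairOf]
    linear_combination r03 + c12
      - (-1 + A 0 2 * A 3 1 + A 0 1 * A 3 2 + A 0 3 * A 3 0 + A 2 1 * A 1 2) * h2
  show (phiMat ((g : GL4) : Mat)).trace = _
  rw [← Matrix.charpoly_reindex idx, ← mat22_mat4 (phiMat _)]
  show _ = (mat4 ((g : GL4) : Mat)).charpoly.coeff 2
  rw [charpoly_coeff_two, hm2]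
  simp [phiMat, mat22, mat4, Matrix.trace, Fintype.sum_sum_type, Fin.sum_univ_four, Fin.sum_univ_two, idx]
  ring

/-- the wedge coordinates -/
def wedge (a b : Fin 4 → F) : Fin 4 → F :=
  ![a 0 * b 1 + a 1 * b 0, a 0 * b 2 + a 2 * b 0, a 1 * b 3 + a 3 * b 1, a 2 * b 3 + a 3 * b 2]

theorem star4_siegel (a b : Fin 4 → F) (h : a 0 * b 3 + a 1 * b 2 + a 2 * b 1 + a 3 * b 0 = 0) :
    star4 (1 + vecMulVec b ![a 3, a 2, a 1, a 0] + vecMulVec a ![b 3, b 2, b 1, b 0]) = tm 1 (wedge a b) := by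
  ext p r
  fin_cases p <;> fin_cases r <;>
    simp [star4, pairOf, tm, wedge, vecMulVec_apply, Matrix.one_apply] <;>
    first
      | (ring_nf; simp [CharTwo.two_eq_zero, CharTwo.sub_eq_add, CharTwo.neg_eq]; done)
      | linear_combination (norm := (ring_nf; simp [CharTwo.two_eq_zero, CharTwo.sub_eq_add, CharTwo.neg_eq])) h

end Cfsg.Agent.SpFourEven.Short
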