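import Mathlib
import Cfsg.Agent.Lib.SpFourEven.Short.Phi

/-!
# The image of an irreducible subgroup without quadratic form is irreducible
-/

set_option autoImplicit false
set_option linter.unusedSectionVars false
set_option linter.unusedSimpArgs false

namespace Cfsg.Agent.SpFourEven.Short

open Matrix Cfsg.Agent.Aschbacher Cfsg.Agent.Forms.SympStd Cfsg.Agent.Forms.Max
open Cfsg.Agent.Forms.Max.Symp (spTrv_apply B_self mem_spGL_iff)
open Cfsg.Agent.Forms.Max.TwoRoot (B_comm)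
open Cfsg.Lie (star4 pairOf)

variable {F : Type*} [Field F] [Fintype F] [CharP F 2] {P : Subgroup (GL (Fin 2 ⊕ Fin 2) F)}

local notation "GL4" => GL (Fin 2 ⊕ Fin 2) F
local notation "Vec" => (Fin 2 ⊕ Fin 2 → F)
local notation "B" => sympB 2 F
local notation "Mat" => Matrix (Fin 2 ⊕ Fin 2) (Fin 2 ⊕ Fin 2) F

/-- the standard basis vectors -/
def sb (i : Fin 2 ⊕ Fin 2) : Fin 2 ⊕ Fin 2 → F := Pi.single i 1

/-- independent lists with the same values of the form are conjugate -/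
theorem move {k : ℕ} (s t : Fin k → Vec) (hs : LinearIndependent F s) (ht : LinearIndependent F t)
    (h : ∀ i j, B (t i) (t j) = B (s i) (s j)) :
    ∃ A : ↥(Cfsg.spGL 2 F), ∀ i, ((A : GL4) : Mat) *ᵥ s i = t i := by
  let bs := Module.Basis.span hs
  let f := bs.constr F t
  have hf : ∀ i, f (bs i) = t i := fun i => bs.constr_basis F t i
  have hinj : Function.Injective f := by
    refine LinearMap.ker_eq_bot.1 (LinearMap.ker_eq_bot'.2 fun x hx => ?_)
    rw [← bs.sum_repr x, map_sum] at hx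
    simp only [map_smul, hf] at hx
    rw [← bs.sum_repr x]
    simp [Fintype.linearIndependent_iff.1 ht _ hx]
  have hval : ∀ i, ((bs i : Submodule.span F (Set.range s)) : Vec) = s i := fun i =>
    congrArg Subtype.val (Module.Basis.span_apply hs i)
  have hiso : (B).compl₁₂ f f =
      (B).compl₁₂ (Submodule.span F (Set.range s)).subtype (Submodule.span F (Set.range s)).subtype :=
    bs.ext fun i => bs.ext fun j => by
      show B (f (bs i)) (f (bs j)) = B (bs i : Vec) (bs j : Vec)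
      rw [hf, hf, hval, hval, h]
  obtain ⟨A, hA⟩ := exists_extend _ f hinj fun x x' => by
    rw [← sympB_apply, ← sympB_apply]
    exact LinearMap.congr_fun (LinearMap.congr_fun hiso x) x'
  let g : GL4 := GeneralLinearGroup.mkOfDetNeZero (A : Mat)
    (SymplecticGroup.symplectic_det A.2).ne_zero
  have hg : g ∈ Cfsg.spGL 2 F := mem_spGL_iff.2 fun u v => by
    rw [sympB_apply, sympB_apply]
    exact sympForm_mulVec A u v
  refine ⟨⟨g, hg⟩, fun i => ?_⟩
  have := hA (bs i)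
  rw [hf, hval] at this
  exact this

theorem phi_entry (g : ↥(Cfsg.spGL 2 F)) (i j : Fin 2 ⊕ Fin 2) :
    ((phiEnd g : GL4) : Mat) i j = star4 (mat4 ((g : GL4) : Mat)) (idx i) (idx j) := rfl

theorem mulVec_sb (A : Mat) (j i : Fin 2 ⊕ Fin 2) : (A *ᵥ sb j) i = A i j := by
  simp [sb, Matrix.mulVec_single]

/-- stabilising the standard line -/
def FixL (g : GL (Fin 2 ⊕ Fin 2) F) : Prop :=
  ∀ i, i ≠ .inl 0 → (g : Matrix (Fin 2 ⊕ Fin 2) (Fin 2 ⊕ Fin 2) F) i (.inl 0) = 0

/-- stabilising the standard Lagrangian plane -/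
def FixPl (g : GL (Fin 2 ⊕ Fin 2) F) : Prop :=
  ∀ i j, (g : Matrix (Fin 2 ⊕ Fin 2) (Fin 2 ⊕ Fin 2) F) (.inr i) (.inl j) = 0

/-- stabilising the standard hyperbolic plane and its perpendicular -/
def FixH (g : GL (Fin 2 ⊕ Fin 2) F) : Prop :=
  ∀ i j : Fin 2 ⊕ Fin 2, Sum.elim id id i ≠ Sum.elim id id j →
    (g : Matrix (Fin 2 ⊕ Fin 2) (Fin 2 ⊕ Fin 2) F) i j = 0

theorem fixPl_of_fixL (g : ↥(Cfsg.spGL 2 F)) (h : FixL (g : GL4)) : FixPl (phiEnd g : GL4) := by
  intro i j
  rw [phi_entry]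
  have a := h (.inl 1) (by decide)
  have b := h (.inr 1) (by decide)
  have c := h (.inr 0) (by decide)
  fin_cases i <;> fin_cases j <;> simp [star4, pairOf, mat4, idx, a, b, c]

theorem fixL_of_fixPl (g : ↥(Cfsg.spGL 2 F)) (h : FixPl (g : GL4)) : FixL (phiEnd g : GL4) := by
  intro i hi
  rw [phi_entry]
  have a := h 0 0
  have b := h 0 1
  have c := h 1 0
  have d := h 1 1
  rcases i with i | i <;> fin_cases i
  · exact absurd rfl hi
  all_goals simp [star4, pairOf, mat4, idx, a, b, c, d]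

/-- the standard quadratic form -/
def Q₀ (v : Fin 2 ⊕ Fin 2 → F) : F := v (.inl 0) * v (.inr 0) + v (.inl 1) * v (.inr 1)

theorem Q₀_phi (g : ↥(Cfsg.spGL 2 F)) (h : FixH (g : GL4)) (v : Vec) :
    Q₀ (((phiEnd g : GL4) : Mat) *ᵥ v) = Q₀ v := by
  have h2 : (2 : F) = 0 := CharTwo.two_eq_zero
  have h01 := h (.inl 0) (.inl 1) (by decide)
  have h02 := h (.inl 0) (.inr 1) (by decide)
  have h10 := h (.inl 1) (.inl 0) (by decide)
  have h13 := h (.inl 1) (.inr 0) (by decide)
  have h20 := h (.inr 1) (.inl 0) (by decide)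
  have h23 := h (.inr 1) (.inr 0) (by decide)
  have h31 := h (.inr 0) (.inl 1) (by decide)
  have h32 := h (.inr 0) (.inr 1) (by decide)
  have e1 := mem_spGL_iff.1 g.2 (sb (.inl 0)) (sb (.inr 0))
  have e2 := mem_spGL_iff.1 g.2 (sb (.inl 1)) (sb (.inr 1))
  simp [sympB_apply, sympForm_eq, Fin.sum_univ_two, mulVec_sb, sb, h01, h02, h10, h13, h20, h23, h31, h32,
    CharTwo.sub_eq_add, CharTwo.neg_eq] at e1 e2
  simp [Q₀, Matrix.mulVec, dotProduct, Fintype.sum_sum_type, Fin.sum_univ_two, phi_entry, star4, pairOf, mat4, idx,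
    h01, h02, h10, h13, h20, h23, h31, h32]
  generalize ((g : GL4) : Mat) = A at e1 e2 ⊢
  linear_combination (norm := (ring_nf; simp [CharTwo.two_eq_zero]))
    (A (.inl 1) (.inl 1) * A (.inr 1) (.inr 1) + A (.inr 1) (.inl 1) * A (.inl 1) (.inr 1)) *
      (v (.inl 0) * v (.inr 0) + v (.inl 1) * v (.inr 1)) * e1 +
    (v (.inl 0) * v (.inr 0) + v (.inl 1) * v (.inr 1)) * e2

theorem Q₀_nondeg : Cfsg.Geo.IsNondegenerateQuadraticForm (Q₀ (F := F)) := by
  have hpol : QuadraticMap.polar (Q₀ (F := F)) = fun u v => B u v := by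
    funext u v
    simp [QuadraticMap.polar, Q₀, sympB_apply, sympForm_eq, Fin.sum_univ_two, CharTwo.sub_eq_add]
    linear_combination (norm := (ring_nf; simp [CharTwo.two_eq_zero]))
  refine ⟨fun c v => by simp [Q₀]; ring, ?_, ?_⟩
  · rw [hpol]
    exact ⟨fun u v w => LinearMap.map_add₂ _ u v w, fun c u v => LinearMap.map_smul₂ _ c u v,
      fun u v w => map_add _ v w, fun c u v => map_smul _ c v⟩
  · rw [hpol]
    intro v hv
    refine ⟨?_, ?_⟩ <;> by_contra hno <;> push Not at hno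
    · exact hv (Symp.nondeg.2 v hno)
    · exact hv (Symp.nondeg.1 v hno)

/-- a group of the image stabilising a standard subspace makes the group reducible, or fixes a form -/
theorem pre_fixed (g : ↥(Cfsg.spGL 2 F)) :
    (FixL (phiEnd g : GL4) → FixPl (g : GL4)) ∧ (FixPl (phiEnd g : GL4) → FixL (g : GL4)) ∧
      (FixH (phiEnd g : GL4) → ∀ v, Q₀ (((g : GL4) : Mat) *ᵥ v) = Q₀ v) := by
  have hsq := phiEnd_sq g
  refine ⟨fun h i j => ?_, fun h i hi => ?_, fun h v => CharTwo.sq_injective ?_⟩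
  · have := fixPl_of_fixL _ h i j
    rw [hsq, Matrix.map_apply] at this
    exact mul_self_eq_zero.1 this
  · have := fixL_of_fixPl _ h i hi
    rw [hsq, Matrix.map_apply] at this
    exact mul_self_eq_zero.1 this
  · have := Q₀_phi _ h (fun i => v i * v i)
    rw [hsq] at this
    have hQsq : ∀ w : Vec, Q₀ (fun i => w i * w i) = Q₀ w ^ 2 := fun w => by
      simp only [Q₀, CharTwo.add_sq]
      ring
    have hmv : (((g : GL4) : Mat).map fun x => x * x) *ᵥ (fun i => v i * v i) =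
        fun i => (((g : GL4) : Mat) *ᵥ v) i * (((g : GL4) : Mat) *ᵥ v) i := funext fun i => by
      simp only [Matrix.mulVec, dotProduct, Matrix.map_apply, CharTwo.sum_mul_self]
      exact Finset.sum_congr rfl fun j _ => by ring
    rw [hmv, hQsq, hQsq] at this
    exact this

set_option maxHeartbeats 1000000 in
/-- the image of an irreducible group without form is irreducible -/
theorem irred_image (hC : Core P) (hQ : NoQuad P) :
    Cfsg.Geo.ActsIrreducibly (Cfsg.Geo.matrixSet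
      (((P.subgroupOf (Cfsg.spGL 2 F)).map phiEnd).map (Cfsg.spGL 2 F).subtype)) := by
  classical
  intro W hW
  by_contra hne
  push Not at hne
  have hWg : ∀ x : ↥(Cfsg.spGL 2 F), (x : GL4) ∈ P → ∀ w ∈ W, ((phiEnd x : GL4) : Mat) *ᵥ w ∈ W := fun x hx w hw =>
    hW _ ⟨(phiEnd x : GL4), Subgroup.mem_map_of_mem _ (Subgroup.mem_map_of_mem _ (Subgroup.mem_subgroupOf.2 hx)),
      rfl⟩ ⟨w, hw, Matrix.toLin'_apply _ w⟩
  have hperp : ∀ x : ↥(Cfsg.spGL 2 F), (x : GL4) ∈ P → ∀ w ∈ (B).orthogonal W,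
      ((phiEnd x : GL4) : Mat) *ᵥ w ∈ (B).orthogonal W := fun x hx w hw n hn => by
    have := hWg x⁻¹ (by rw [InvMemClass.coe_inv]; exact inv_mem hx) n hn
    have h3 := hw _ this
    show B n _ = 0
    rw [map_inv, InvMemClass.coe_inv] at h3
    have h4 := mem_spGL_iff.1 (phiEnd x).2 (((phiEnd x : GL4)⁻¹ : GL4).1 *ᵥ n) w
    rw [mulVec_mulVec, ← Units.val_mul, mul_inv_cancel, Units.val_one, one_mulVec] at h4
    rw [h4]; exact h3
  -- conjugating inside the symplectic group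
  have key : ∀ A : ↥(Cfsg.spGL 2 F), (∀ x : ↥(Cfsg.spGL 2 F), (x : GL4) ∈ P →
      FixL ((A⁻¹ * phiEnd x * A : ↥(Cfsg.spGL 2 F)) : GL4)) → False := by
    intro A hA
    obtain ⟨T, rfl⟩ := phiEnd_bijective.2 A
    let L : Submodule F Vec := Submodule.span F {((T : GL4) : Mat) *ᵥ sb (.inl 0), ((T : GL4) : Mat) *ᵥ sb (.inl 1)}
    rcases hC.irred L (by
      rintro _ ⟨g, hg, rfl⟩
      rw [Submodule.map_le_iff_le_comap, Submodule.span_le]
      intro y hy
      have h := ((pre_fixed _).1 (by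
        have := hA ⟨g, hC.le hg⟩ hg
        rwa [← map_inv, ← map_mul, ← map_mul] at this))
      have hcol : ∀ j, ((T⁻¹ * ⟨g, hC.le hg⟩ * T : ↥(Cfsg.spGL 2 F)) : GL4).1 *ᵥ sb (.inl j) =
          ((T⁻¹ * ⟨g, hC.le hg⟩ * T : ↥(Cfsg.spGL 2 F)) : GL4).1 (.inl 0) (.inl j) • sb (.inl 0) +
          ((T⁻¹ * ⟨g, hC.le hg⟩ * T : ↥(Cfsg.spGL 2 F)) : GL4).1 (.inl 1) (.inl j) • sb (.inl 1) := fun j => by
        funext i
        rw [mulVec_sb]
        rcases i with i | i
        · fin_cases i <;> simp [sb]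
        · rw [h i j]; simp [sb]
      have hgT : ∀ j, g.1 *ᵥ ((T : GL4).1 *ᵥ sb (.inl j)) =
          (T : GL4).1 *ᵥ (((T⁻¹ * ⟨g, hC.le hg⟩ * T : ↥(Cfsg.spGL 2 F)) : GL4).1 *ᵥ sb (.inl j)) := fun j => by
        rw [Subgroup.coe_mul, Subgroup.coe_mul, InvMemClass.coe_inv, mulVec_mul_GL, mulVec_mul_GL, mulVec_inv_cancel]
      simp only [SetLike.mem_coe, Submodule.mem_comap, Matrix.toLin'_apply]
      rcases hy with rfl | rfl <;>
      · rw [hgT, hcol, mulVec_add, mulVec_smul, mulVec_smul]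
        exact add_mem (Submodule.smul_mem _ _ (Submodule.subset_span (by simp)))
          (Submodule.smul_mem _ _ (Submodule.subset_span (by simp)))) with e | e
    · have hmem : ((T : GL4) : Mat) *ᵥ sb (.inl 0) ∈ L := Submodule.subset_span (by simp)
      rw [e, Submodule.mem_bot] at hmem
      have := congrArg ((((T : GL4)⁻¹ : GL4) : Mat) *ᵥ ·) hmem
      simp only [inv_mulVec_cancel, mulVec_zero] at this
      have h1' := congrFun this (Sum.inl 0)
      rw [sb, Pi.single_eq_same, Pi.zero_apply] at h1'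
      exact one_ne_zero h1'
    · have h := finrank_span_finset_le_card (R := F)
        ({((T : GL4) : Mat) *ᵥ sb (.inl 0), ((T : GL4) : Mat) *ᵥ sb (.inl 1)} : Finset Vec)
      rw [Finset.coe_pair] at h
      change Module.finrank F L ≤ _ at h
      rw [e, finrank_top, finrank_vec] at h
      exact absurd (h.trans Finset.card_le_two) (by norm_num)
  have line : ∀ p : Vec, p ≠ 0 → (∀ x : ↥(Cfsg.spGL 2 F), (x : GL4) ∈ P →
      ∃ c : F, ((phiEnd x : GL4) : Mat) *ᵥ p = c • p) → False := by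
    intro p hp hfix
    obtain ⟨A, hA⟩ := move ![sb (.inl 0)] ![p] (LinearIndependent.of_subsingleton 0 (by simp [sb]))
      (LinearIndependent.of_subsingleton 0 hp) (by simp [B_self])
    refine key A fun x hx i hi => ?_
    obtain ⟨c, hc⟩ := hfix x hx
    have h0 : ((A : GL4) : Mat) *ᵥ sb (.inl 0) = p := hA 0
    rw [← mulVec_sb ((A⁻¹ * phiEnd x * A : ↥(Cfsg.spGL 2 F)) : GL4).1]
    rw [Subgroup.coe_mul, Subgroup.coe_mul, InvMemClass.coe_inv, mulVec_mul_GL, mulVec_mul_GL, h0, hc, mulVec_smul,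
      ← h0, inv_mulVec_cancel]
    simp [sb, hi]
  have hfin : Module.finrank F W < 4 := by
    have := Submodule.finrank_lt hne.2
    rwa [finrank_vec] at this
  have hpos : Module.finrank F W ≠ 0 := fun e => hne.1 (Submodule.finrank_eq_zero.1 e)
  have line' : ∀ U : Submodule F Vec, Module.finrank F U = 1 →
      (∀ x : ↥(Cfsg.spGL 2 F), (x : GL4) ∈ P → ∀ w ∈ U, ((phiEnd x : GL4) : Mat) *ᵥ w ∈ U) → False := by
    intro U hU hinv
    obtain ⟨⟨p, hpU⟩, hp0, hpa⟩ := finrank_eq_one_iff'.1 hU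
    refine line p (fun e => hp0 (Subtype.ext e)) fun x hx => ?_
    obtain ⟨c, hc⟩ := hpa ⟨_, hinv x hx p hpU⟩
    exact ⟨c, (congrArg Subtype.val hc).symm⟩
  rcases (show Module.finrank F W = 1 ∨ Module.finrank F W = 2 ∨ Module.finrank F W = 3 by omega) with e | e | e
  · exact line' W e hWg
  swap
  · exact line' _ (by rw [LinearMap.BilinForm.finrank_orthogonal Symp.nondeg, e, finrank_vec]) hperp
  let b := Module.finBasisOfFinrankEq F W e
  have hb : ∀ w ∈ W, ∃ p q : F, w = p • (b 0 : Vec) + q • (b 1 : Vec) := fun w hw => ⟨b.repr ⟨w, hw⟩ 0, b.repr ⟨w, hw⟩ 1,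
    by
      have := congrArg Subtype.val (b.sum_repr ⟨w, hw⟩)
      rw [Fin.sum_univ_two] at this
      exact this.symm⟩
  have hbi : LinearIndependent F ![(b 0 : Vec), (b 1 : Vec)] := by
    rw [LinearIndependent.pair_iff]
    intro p q hpq
    have := Fintype.linearIndependent_iff.1 b.linearIndependent ![p, q] (Subtype.ext (by simpa [Fin.sum_univ_two] using hpq))
    exact ⟨this 0, this 1⟩
  have hsb : ∀ i j : Fin 2 ⊕ Fin 2, i ≠ j → LinearIndependent F ![sb (F := F) i, sb j] := fun i j hij => by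
    rw [LinearIndependent.pair_iff]
    intro p q hpq
    exact ⟨by simpa [sb, hij, hij.symm] using congrFun hpq i, by simpa [sb, hij, hij.symm] using congrFun hpq j⟩
  by_cases hl : B (b 0 : Vec) (b 1 : Vec) = 0
  · -- a Lagrangian plane
    obtain ⟨A, hA⟩ := move ![sb (.inl 0), sb (.inl 1)] ![(b 0 : Vec), (b 1 : Vec)] (hsb _ _ (by decide)) hbi (by
      have hl' : B (b 1 : Vec) (b 0 : Vec) = 0 := by rw [B_comm]; exact hl
      intro i j
      fin_cases i <;> fin_cases j <;> simp [B_self, hl, hl'] <;>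
        simp [sympB_apply, sympForm_eq, sb, Fin.sum_univ_two])
    have h0 : ((A : GL4) : Mat) *ᵥ sb (.inl 0) = (b 0 : Vec) := hA 0
    have h1 : ((A : GL4) : Mat) *ᵥ sb (.inl 1) = (b 1 : Vec) := hA 1
    obtain ⟨T, hT⟩ := phiEnd_bijective.2 A
    have hp0 : ((T : GL4) : Mat) *ᵥ sb (.inl 0) ≠ 0 := fun e0 => by
      have := congrArg ((((T : GL4)⁻¹ : GL4) : Mat) *ᵥ ·) e0
      simp only [inv_mulVec_cancel, mulVec_zero] at this
      have h1' := congrFun this (Sum.inl 0)
      rw [sb, Pi.single_eq_same, Pi.zero_apply] at h1'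
      exact one_ne_zero h1'
    rcases hC.irred (Submodule.span F {((T : GL4) : Mat) *ᵥ sb (.inl 0)}) (by
      rintro _ ⟨g, hg, rfl⟩
      rw [Submodule.map_le_iff_le_comap, Submodule.span_le, Set.singleton_subset_iff]
      have hP : FixPl ((phiEnd (T⁻¹ * ⟨g, hC.le hg⟩ * T) : ↥(Cfsg.spGL 2 F)) : GL4) := by
        intro i j
        rw [← mulVec_sb (((phiEnd (T⁻¹ * ⟨g, hC.le hg⟩ * T) : ↥(Cfsg.spGL 2 F)) : GL4).1), map_mul, map_mul, map_inv, hT, Subgroup.coe_mul, Subgroup.coe_mul, InvMemClass.coe_inv,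
          mulVec_mul_GL, mulVec_mul_GL]
        obtain ⟨p, q, hpq⟩ := hb _ (hWg ⟨g, hC.le hg⟩ hg (((A : GL4) : Mat) *ᵥ sb (.inl j)) (by
          obtain rfl | rfl : j = 0 ∨ j = 1 := by omega
          · rw [h0]; exact (b 0).2
          · rw [h1]; exact (b 1).2))
        rw [hpq, ← h0, ← h1, mulVec_add, mulVec_smul, mulVec_smul, inv_mulVec_cancel, inv_mulVec_cancel]
        simp [sb]
      simp only [SetLike.mem_coe, Submodule.mem_comap, Matrix.toLin'_apply, Submodule.mem_span_singleton]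
      refine ⟨((T⁻¹ * ⟨g, hC.le hg⟩ * T : ↥(Cfsg.spGL 2 F)) : GL4).1 (.inl 0) (.inl 0), ?_⟩
      have hc : ((T⁻¹ * ⟨g, hC.le hg⟩ * T : ↥(Cfsg.spGL 2 F)) : GL4).1 *ᵥ sb (.inl 0) =
          ((T⁻¹ * ⟨g, hC.le hg⟩ * T : ↥(Cfsg.spGL 2 F)) : GL4).1 (.inl 0) (.inl 0) • sb (.inl 0) := by
        funext i
        rw [mulVec_sb]
        by_cases hi : i = .inl 0
        · subst hi; simp [sb]
        · rw [(pre_fixed _).2.1 hP i hi]; simp [sb, hi]
      rw [← mulVec_smul, ← hc, Subgroup.coe_mul, Subgroup.coe_mul, InvMemClass.coe_inv, mulVec_mul_GL, mulVec_mul_GL,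
        mulVec_inv_cancel]) with ee | ee
    · exact hp0 (Submodule.span_singleton_eq_bot.1 ee)
    · have := finrank_span_singleton (K := F) hp0
      rw [ee, finrank_top, finrank_vec] at this
      omega
  · -- a hyperbolic plane
    set l := B (b 0 : Vec) (b 1 : Vec) with hldef
    obtain ⟨A, hA⟩ := move ![sb (.inl 0), sb (.inr 0)] ![(b 0 : Vec), l⁻¹ • (b 1 : Vec)] (hsb _ _ (by decide)) (by
        rw [LinearIndependent.pair_iff] at hbi ⊢
        intro p q hpq
        rw [smul_smul] at hpq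
        obtain ⟨h1, h2⟩ := hbi p (q * l⁻¹) hpq
        exact ⟨h1, (mul_eq_zero.1 h2).resolve_right (inv_ne_zero hl)⟩) (by
      have hl' : B (b 1 : Vec) (b 0 : Vec) = l := by rw [B_comm]
      intro i j
      fin_cases i <;> fin_cases j <;>
        simp [B_self, ← hldef, hl', inv_mul_cancel₀ hl] <;>
        simp [sympB_apply, sympForm_eq, sb, Fin.sum_univ_two, CharTwo.neg_eq])
    have h0 : ((A : GL4) : Mat) *ᵥ sb (.inl 0) = (b 0 : Vec) := hA 0
    have h1 : ((A : GL4) : Mat) *ᵥ sb (.inr 0) = l⁻¹ • (b 1 : Vec) := hA 1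
    obtain ⟨T, hT⟩ := phiEnd_bijective.2 A
    refine hQ ⟨fun v => Q₀ ((((T : GL4)⁻¹ : GL4) : Mat) *ᵥ v), ?_, ?_⟩
    · have hQ₀ := Q₀_nondeg (F := F)
      have hpol : QuadraticMap.polar (fun v => Q₀ ((((T : GL4)⁻¹ : GL4) : Mat) *ᵥ v)) = fun u v =>
          QuadraticMap.polar Q₀ ((((T : GL4)⁻¹ : GL4) : Mat) *ᵥ u) ((((T : GL4)⁻¹ : GL4) : Mat) *ᵥ v) := by
        funext u v; simp [QuadraticMap.polar, mulVec_add]
      refine ⟨fun c v => by rw [mulVec_smul]; exact hQ₀.smul _ _, ?_, ?_⟩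
      · rw [hpol]
        obtain ⟨a₁, a₂, a₃, a₄⟩ := hQ₀.polar_bilinear
        exact ⟨fun u v w => by simp only [mulVec_add]; exact a₁ _ _ _,
          fun c u v => by simp only [mulVec_smul]; exact a₂ _ _ _,
          fun u v w => by simp only [mulVec_add]; exact a₃ _ _ _,
          fun c u v => by simp only [mulVec_smul]; exact a₄ _ _ _⟩
      · rw [hpol]
        intro v hv
        obtain ⟨⟨x, hx⟩, ⟨y, hy⟩⟩ := hQ₀.nondegenerate ((((T : GL4)⁻¹ : GL4) : Mat) *ᵥ v) (fun e0 => hv (by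
          have := congrArg (((T : GL4) : Mat) *ᵥ ·) e0
          simpa [mulVec_inv_cancel] using this))
        exact ⟨⟨((T : GL4) : Mat) *ᵥ x, by simpa [inv_mulVec_cancel] using hx⟩, ⟨((T : GL4) : Mat) *ᵥ y, by simpa [inv_mulVec_cancel] using hy⟩⟩
    rintro _ ⟨g, hg, rfl⟩ v
    have hH : FixH ((phiEnd (T⁻¹ * ⟨g, hC.le hg⟩ * T) : ↥(Cfsg.spGL 2 F)) : GL4) := by
      set y : ↥(Cfsg.spGL 2 F) := phiEnd (T⁻¹ * ⟨g, hC.le hg⟩ * T) with hydef
      have hW0 : ∀ j, (j = .inl 0 ∨ j = .inr 0) → ∃ p q : F,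
          ((y : GL4) : Mat) *ᵥ sb j = p • sb (.inl 0) + q • sb (.inr 0) := fun j hj => by
        obtain ⟨p, q, hpq⟩ := hb _ (hWg ⟨g, hC.le hg⟩ hg (((A : GL4) : Mat) *ᵥ sb j) (by
          rcases hj with rfl | rfl
          · rw [h0]; exact (b 0).2
          · rw [h1]; exact W.smul_mem _ (b 1).2))
        refine ⟨p, q * l, ?_⟩
        rw [hydef, map_mul, map_mul, map_inv, hT, Subgroup.coe_mul, Subgroup.coe_mul, InvMemClass.coe_inv,
          mulVec_mul_GL, mulVec_mul_GL, hpq,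
          show p • (b 0 : Vec) + q • (b 1 : Vec) = p • (b 0 : Vec) + (q * l) • (l⁻¹ • (b 1 : Vec)) by
            rw [smul_smul, mul_assoc, mul_inv_cancel₀ hl, mul_one],
          ← h0, ← h1, mulVec_add, mulVec_smul, mulVec_smul, inv_mulVec_cancel, inv_mulVec_cancel]
      obtain ⟨p, q, hpq⟩ := hW0 (.inl 0) (Or.inl rfl)
      obtain ⟨p', q', hpq'⟩ := hW0 (.inr 0) (Or.inr rfl)
      have f := mem_spGL_iff.1 y.2
      have g1 : ∀ k, k = .inl 1 ∨ k = .inr 1 →
          (y : GL4).1 (.inl 0) k = 0 ∧ (y : GL4).1 (.inr 0) k = 0 := by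
        intro k hk
        have a1 := f (sb (.inl 0)) (sb k)
        have a2 := f (sb (.inr 0)) (sb k)
        rw [hpq] at a1
        rw [hpq'] at a2
        have hd : p * q' + q * p' = 1 := by
          have := f (sb (.inl 0)) (sb (.inr 0))
          rw [hpq, hpq'] at this
          simp [sympB_apply, sympForm_eq, sb, Fin.sum_univ_two, CharTwo.sub_eq_add] at this
          linear_combination this
        rcases hk with rfl | rfl <;>
          simp [sympB_apply, sympForm_eq, Fin.sum_univ_two, mulVec_sb, sb, CharTwo.sub_eq_add] at a1 a2 <;>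
          constructor
        all_goals first
          | (linear_combination (norm := (ring_nf; simp [CharTwo.two_eq_zero])) p' * a1 + p * a2 + (y : GL4).1 (.inl 0) (.inl 1) * hd; done)
          | (linear_combination (norm := (ring_nf; simp [CharTwo.two_eq_zero])) p' * a1 + p * a2 + (y : GL4).1 (.inl 0) (.inr 1) * hd; done)
          | (linear_combination (norm := (ring_nf; simp [CharTwo.two_eq_zero])) q' * a1 + q * a2 + (y : GL4).1 (.inr 0) (.inl 1) * hd; done)
          | (linear_combination (norm := (ring_nf; simp [CharTwo.two_eq_zero])) q' * a1 + q * a2 + (y : GL4).1 (.inr 0) (.inr 1) * hd; done)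
      intro i j hij
      rcases i with i | i <;> rcases j with j | j <;>
        (obtain rfl | rfl : i = 0 ∨ i = 1 := (by omega)) <;>
        (obtain rfl | rfl : j = 0 ∨ j = 1 := (by omega)) <;>
        first
          | exact absurd rfl hij
          | exact (g1 _ (Or.inl rfl)).1
          | exact (g1 _ (Or.inl rfl)).2
          | exact (g1 _ (Or.inr rfl)).1
          | exact (g1 _ (Or.inr rfl)).2
          | (rw [← mulVec_sb ((y : GL4).1)]; first | (rw [hpq]; simp [sb]; done) | (rw [hpq']; simp [sb]; done))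
    have h := (pre_fixed _).2.2 hH ((((T : GL4)⁻¹ : GL4) : Mat) *ᵥ v)
    rw [Subgroup.coe_mul, Subgroup.coe_mul, InvMemClass.coe_inv, mulVec_mul_GL, mulVec_mul_GL, mulVec_inv_cancel] at h
    exact h

end Cfsg.Agent.SpFourEven.Short
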