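import Mathlib
import Cfsg.Agent.Lib.SpFourEven.Short.Phi

/-!
# Short root involutions and their images
-/

set_option autoImplicit false
set_option linter.unusedSectionVars false
set_option linter.unusedSimpArgs false

namespace Cfsg.Agent.SpFourEven.Short

open Matrix Cfsg.Agent.Aschbacher Cfsg.Agent.Forms.SympStd Cfsg.Agent.Forms.Max
open Cfsg.Agent.Forms.Max.Symp (spTrv_apply B_self mem_spGL_iff)
open Cfsg.Agent.Forms.Max.TwoRoot (B_comm)

variable {F : Type*} [Field F] [Fintype F] [CharP F 2]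

local notation "GL4" => GL (Fin 2 ⊕ Fin 2) F
local notation "Vec" => (Fin 2 ⊕ Fin 2 → F)
local notation "B" => sympB 2 F
local notation "Mat" => Matrix (Fin 2 ⊕ Fin 2) (Fin 2 ⊕ Fin 2) F

theorem add_self' (v : Vec) : v + v = 0 := funext fun _ => CharTwo.add_self_eq_zero _

/-- a short root involution is a Siegel element -/
theorem short_shape {g : GL4} (hg : g ∈ Cfsg.spGL 2 F) (h : IsShort g) :
    ∃ a b : Vec, B a b = 0 ∧ ∀ y, (g : Mat) *ᵥ y = y + B y a • b + B y b • a := by
  obtain ⟨h2, h1, halt⟩ := h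
  let N : Vec →ₗ[F] Vec := Matrix.toLin' ((g : Mat) - 1)
  have hN : ∀ y, N y = (g : Mat) *ᵥ y + y := fun y => by
    simp only [N, Matrix.toLin'_apply, sub_mulVec, one_mulVec]
    funext i
    simp [CharTwo.sub_eq_add]
  have hgg : ∀ y, (g : Mat) *ᵥ ((g : Mat) *ᵥ y) = y := fun y => by
    rw [← mulVec_mul_GL, h2, Units.val_one, one_mulVec]
  have hsym : ∀ x y, B (N x) y = B x (N y) := fun x y => by
    rw [hN, hN, map_add, LinearMap.add_apply, map_add]
    congr 1
    conv_rhs => rw [← mem_spGL_iff.1 hg, hgg]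
  have hS0 : ∀ x, B x (N x) = 0 := fun x => by rw [hN, map_add, halt, B_self, add_zero]
  have hNN : ∀ y, N (N y) = 0 := fun y => by
    rw [hN, hN, mulVec_add, hgg, add_comm ((g : Mat) *ᵥ y) y]
    exact add_self' _
  obtain ⟨x₁, x₂, hs⟩ : ∃ x y, B x (N y) ≠ 0 := by
    by_contra hno
    push Not at hno
    refine h1 (gl_ext fun y => ?_)
    have := (hN y).symm.trans (Symp.nondeg.2 _ fun x => hno x y)
    rw [Units.val_one, one_mulVec]
    funext i
    have h3 := congrFun this i
    simp only [Pi.add_apply, Pi.zero_apply] at h3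
    exact CharTwo.add_eq_zero.1 h3
  set s := B x₁ (N x₂)
  have e11 : B x₁ (N x₁) = 0 := hS0 x₁
  have e22 : B x₂ (N x₂) = 0 := hS0 x₂
  have e21 : B x₂ (N x₁) = s := by rw [← hsym, B_comm]
  -- the image is the plane of `N x₁`, `N x₂`
  have hli : LinearIndependent F ![N x₁, N x₂] := by
    rw [LinearIndependent.pair_iff]
    intro p q hpq
    have f1 := congrArg (B x₁) hpq
    have f2 := congrArg (B x₂) hpq
    simp only [map_add, map_smul, map_zero, smul_eq_mul, e11, e22, e21, mul_zero, zero_add, add_zero,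
      mul_eq_zero] at f1 f2
    exact ⟨f2.resolve_right hs, f1.resolve_right hs⟩
  have hspan : Submodule.span F (Set.range ![N x₁, N x₂]) = LinearMap.range N := by
    refine Submodule.eq_of_le_of_finrank_le (Submodule.span_le.2 ?_) ?_
    · rintro _ ⟨i, rfl⟩
      fin_cases i
      exacts [⟨x₁, rfl⟩, ⟨x₂, rfl⟩]
    · rw [finrank_span_eq_card hli, Fintype.card_fin]
      have hle : LinearMap.range N ≤ LinearMap.ker N := by
        rintro _ ⟨y, rfl⟩
        exact LinearMap.mem_ker.2 (hNN y)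
      have := Submodule.finrank_mono hle
      have := LinearMap.finrank_range_add_finrank_ker N
      rw [finrank_vec] at this
      omega
  refine ⟨N x₁, s⁻¹ • N x₂, ?_, fun y => ?_⟩
  · rw [map_smul, hsym, hNN, map_zero, smul_zero]
  set y' := y + (B y (N x₂) / s) • x₁ + (B y (N x₁) / s) • x₂ with hy'
  have f1 : B x₁ (N y') = 0 := by
    rw [← hsym, B_comm, hy']
    simp only [map_add, map_smul, LinearMap.add_apply, LinearMap.smul_apply, smul_eq_mul, e11, e21, mul_zero,
      add_zero, div_mul_cancel₀ _ hs]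
    exact CharTwo.add_self_eq_zero _
  have f2 : B x₂ (N y') = 0 := by
    rw [← hsym, B_comm, hy']
    simp only [map_add, map_smul, LinearMap.add_apply, LinearMap.smul_apply, smul_eq_mul, e22, mul_zero,
      add_zero, show B x₁ (N x₂) = s from rfl, div_mul_cancel₀ _ hs]
    exact CharTwo.add_self_eq_zero _
  have hNy' : N y' = 0 := by
    obtain ⟨c, hc⟩ := (Submodule.mem_span_range_iff_exists_fun F).1 (hspan.ge ⟨y', rfl⟩)
    rw [Fin.sum_univ_two] at hc
    simp only [Matrix.cons_val_zero, Matrix.cons_val_one, Matrix.head_cons] at hc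
    rw [← hc] at f1 f2 ⊢
    simp only [map_add, map_smul, smul_eq_mul, e11, e22, e21, mul_zero, zero_add, add_zero, mul_eq_zero] at f1 f2
    rw [f1.resolve_right hs, f2.resolve_right hs, zero_smul, zero_smul, add_zero]
  rw [hy', map_add, map_add, map_smul, map_smul, hN y] at hNy'
  funext i
  have h3 := congrFun hNy' i
  simp only [Pi.add_apply, Pi.smul_apply, smul_eq_mul, Pi.zero_apply, map_smul] at h3 ⊢
  linear_combination (norm := (ring_nf; simp [CharTwo.two_eq_zero])) h3

/-- the image of a short root involution is a transvection -/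
theorem phi_short (g : ↥(Cfsg.spGL 2 F)) (h : IsShort (g : GL4)) :
    ∃ w : Vec, w ≠ 0 ∧ ((phiEnd g : ↥(Cfsg.spGL 2 F)) : GL4) = spTrv w 1 := by
  obtain ⟨a, b, hab, hg⟩ := short_shape g.2 h
  refine ⟨wedge (vec4 a) (vec4 b) ∘ idx, ?_⟩
  have e : ((phiEnd g : ↥(Cfsg.spGL 2 F)) : GL4) = spTrv (wedge (vec4 a) (vec4 b) ∘ idx) 1 := by
    refine Units.ext ?_
    show phiMat ((g : GL4) : Mat) = _
    rw [← mat22_mat4 ((spTrv _ 1 : GL4) : Mat), mat4_spTrv, vec4_back, phiMat]
    congr 1
    have hm : mat4 ((g : GL4) : Mat) = 1 + vecMulVec (vec4 b) ![vec4 a 3, vec4 a 2, vec4 a 1, vec4 a 0] +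
        vecMulVec (vec4 a) ![vec4 b 3, vec4 b 2, vec4 b 1, vec4 b 0] := by
      refine Matrix.ext_iff_mulVec.2 fun w => ?_
      rw [← vec4_back w, mat4_mulVec, hg, ← altForm4_vec4, ← altForm4_vec4, add_mulVec, add_mulVec, one_mulVec,
        vecMulVec_mulVec, vecMulVec_mulVec, op_smul_eq_smul, op_smul_eq_smul]
      funext i
      simp [vec4, Cfsg.Lie.altForm4, dotProduct, Fin.sum_univ_four]
      ring
    rw [hm, star4_siegel]
    have h4 := altForm4_vec4 a b
    rw [hab] at h4
    exact h4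
  refine ⟨fun h0 => ?_, e⟩
  rw [h0, show spTrv (0 : Vec) (1 : F) = 1 from gl_ext fun x => by simp [spTrv_apply]] at e
  have h5 : phiEnd g = phiEnd 1 := by rw [map_one]; exact Subtype.ext e
  exact h.2.1 (congrArg Subtype.val (phiEnd_injective h5))

end Cfsg.Agent.SpFourEven.Short
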