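import Mathlib
import Cfsg.Agent.Lib.SpFourEven.Short.Shape
import Cfsg.Agent.Lib.SpFourEven.Short.Irred

/-!
# A simple irreducible subgroup of `Sp₄(q)`, `q` even, with a short root involution
-/

set_option autoImplicit false
set_option linter.unusedSectionVars false

namespace Cfsg.Agent.SpFourEven.Short

open Matrix Cfsg.Agent.Aschbacher Cfsg.Agent.Forms.SympStd Cfsg.Agent.Forms.Max

variable {F : Type*} [Field F] [Fintype F] [CharP F 2] {P : Subgroup (GL (Fin 2 ⊕ Fin 2) F)}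

local notation "GL4" => GL (Fin 2 ⊕ Fin 2) F
local notation "Mat" => Matrix (Fin 2 ⊕ Fin 2) (Fin 2 ⊕ Fin 2) F

/-- the image of a subgroup under the exceptional endomorphism -/
noncomputable def image (P : Subgroup (GL (Fin 2 ⊕ Fin 2) F)) : Subgroup (GL (Fin 2 ⊕ Fin 2) F) :=
  ((P.subgroupOf (Cfsg.spGL 2 F)).map phiEnd).map (Cfsg.spGL 2 F).subtype

theorem core_image (hC : Core P) (hQ : NoQuad P) : Core (image P) where
  le := Subgroup.map_subtype_le _
  perfect := by
    have h : ⁅P.subgroupOf (Cfsg.spGL 2 F), P.subgroupOf (Cfsg.spGL 2 F)⁆ = P.subgroupOf (Cfsg.spGL 2 F) :=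
      Subgroup.map_injective (Cfsg.spGL 2 F).subtype_injective (by
        rw [Subgroup.map_commutator, Subgroup.map_subgroupOf_eq_of_le hC.le, hC.perfect])
    rw [image, ← Subgroup.map_commutator, ← Subgroup.map_commutator, h]
  simple := by
    let e : P ≃* image P := ((Subgroup.subgroupOfEquivOfLe hC.le).symm.trans
      (Subgroup.equivMapOfInjective _ phiEnd phiEnd_injective)).trans
      (Subgroup.equivMapOfInjective _ _ (Cfsg.spGL 2 F).subtype_injective)
    haveI := hC.simple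
    haveI : Nontrivial (image P) := e.symm.toEquiv.nontrivial
    exact IsSimpleGroup.isSimpleGroup_of_surjective e.toMonoidHom e.surjective
  irred := irred_image hC hQ

theorem mem_image {x : ↥(Cfsg.spGL 2 F)} (hx : (x : GL4) ∈ P) : ((phiEnd x : ↥(Cfsg.spGL 2 F)) : GL4) ∈ image P :=
  Subgroup.mem_map_of_mem _ (Subgroup.mem_map_of_mem _ (Subgroup.mem_subgroupOf.2 hx))

/-- coefficients of the characteristic polynomial of a matrix rational over a subfield -/
theorem coeff_mem {K : Subfield F} (M : GL (Fin 2 ⊕ Fin 2) F) (S : Matrix (Fin 2 ⊕ Fin 2) (Fin 2 ⊕ Fin 2) F)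
    (h : ∀ i j, ((M : Matrix (Fin 2 ⊕ Fin 2) (Fin 2 ⊕ Fin 2) F) * S *
      ((M⁻¹ : GL (Fin 2 ⊕ Fin 2) F) : Matrix (Fin 2 ⊕ Fin 2) (Fin 2 ⊕ Fin 2) F)) i j ∈ K) (n : ℕ) :
    S.charpoly.coeff n ∈ K := by
  let A : Matrix (Fin 2 ⊕ Fin 2) (Fin 2 ⊕ Fin 2) K := Matrix.of fun i j => ⟨_, h i j⟩
  have e : S.charpoly = A.charpoly.map K.subtype := by
    rw [← Matrix.charpoly_map, ← Matrix.charpoly_units_conj M S]
    refine congrArg Matrix.charpoly (Matrix.ext fun i j => ?_)
    simp [A]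
  rw [e, Polynomial.coeff_map]
  exact SetLike.coe_mem _

/-- with a short root involution the group is the symplectic group -/
theorem short_full (hC : Core P) (hQ : NoQuad P) (hT : FullTraces P) (hs : HasShort P)
    (hA : ∀ P' : Subgroup (GL (Fin 2 ⊕ Fin 2) F), Core P' → HasTrv P' →
      P' = Cfsg.spGL 2 F ∨ ∃ K : Subfield F, K ≠ ⊤ ∧ Cfsg.Geo.RealisableOver K (Cfsg.Geo.matrixSet P')) :
    P = Cfsg.spGL 2 F := by
  classical
  obtain ⟨g, hgP, hg⟩ := hs
  obtain ⟨w, hw, hphi⟩ := phi_short ⟨g, hC.le hgP⟩ hg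
  have ht : HasTrv (image P) := ⟨w, 1, hw, one_ne_zero, by rw [← hphi]; exact mem_image (x := ⟨g, hC.le hgP⟩) hgP⟩
  rcases hA _ (core_image hC hQ) ht with h | ⟨K, hK, M, hM⟩
  · refine le_antisymm hC.le fun x hx => ?_
    have h1 : ((phiEnd ⟨x, hx⟩ : ↥(Cfsg.spGL 2 F)) : GL4) ∈ image P := by rw [h]; exact SetLike.coe_mem _
    obtain ⟨y, ⟨z, hz, hzy⟩, hy⟩ := h1
    rw [← hzy] at hy
    have := phiEnd_injective (Subtype.ext hy)
    rw [this] at hz
    exact hz
  · refine absurd (hT K fun y hy => ?_) hK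
    set x : ↥(Cfsg.spGL 2 F) := ⟨y, hC.le hy⟩
    have h2 : ((phiEnd (phiEnd x) : GL4) : Mat).trace ∈ K := by
      rw [trace_phi]
      exact coeff_mem M _ (hM _ ⟨_, mem_image hy, rfl⟩) 2
    rw [phiEnd_sq] at h2
    have h3 : (((x : GL4) : Mat).map fun a => a * a).trace = ((x : GL4) : Mat).trace ^ 2 := by
      rw [pow_two]
      simp only [Matrix.trace, Matrix.diag, Matrix.map_apply, CharTwo.sum_mul_self]
    rw [h3] at h2
    have hinj : Function.Injective fun a : K => a ^ 2 := fun a c hac =>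
      Subtype.ext (CharTwo.sq_injective (congrArg Subtype.val hac))
    obtain ⟨k, hk⟩ := (Finite.surjective_of_injective hinj) ⟨_, h2⟩
    have := CharTwo.sq_injective (congrArg Subtype.val hk : (k : F) ^ 2 = ((x : GL4) : Mat).trace ^ 2)
    rw [← this]
    exact k.2

end Cfsg.Agent.SpFourEven.Short
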